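import Groth.Agent.Lib.TorsTriv25.Ring
import Groth.Agent.Lib.TorsorSch25.Transfer
import Groth.Agent.Lib.GaPts.Basic
import Groth.Prelude.Def_GmPts
import Groth.Prelude.Def_NonAbH2

/-!
Torsors under `𝔾ₘ` and `𝔾ₐ` over an affine open: the group of points acting on the points of the
coordinate algebra.
-/

set_option backward.isDefEq.respectTransparency.types false

universe u

open CategoryTheory CategoryTheory.Limits MonoidalCategory CartesianMonoidalCategory MonObj AlgebraicGeometry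

noncomputable section

namespace Groth.Agent.TorsTriv25

section Points

variable {S : Scheme.{u}} {U : S.Opens} (hU : IsAffineOpen U)

/-- The spectrum of an algebra over an affine open. -/
abbrev tC (C : Type u) [CommRing C] [Algebra Γ(S, U) C] : Over S :=
  Over.mk (Spec.map (CommRingCat.ofHom (algebraMap Γ(S, U) C)) ≫ hU.fromSpec)

/-- The map of spectra of an algebra map. -/
def tMap {C D : Type u} [CommRing C] [Algebra Γ(S, U) C] [CommRing D] [Algebra Γ(S, U) D] (h : C →ₐ[Γ(S, U)] D) :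
    tC hU D ⟶ tC hU C :=
  Over.homMk (Spec.map (CommRingCat.ofHom h.toRingHom)) (by
    simp only [Over.mk_hom]
    rw [← Spec.map_comp_assoc, ← CommRingCat.ofHom_comp, AlgHom.toRingHom_eq_coe, h.comp_algebraMap])

/-- Elements as global functions on the spectrum. -/
def glob (C : Type u) [CommRing C] [Algebra Γ(S, U) C] : C →+* Γ((tC hU C).left, ⊤) :=
  (Scheme.ΓSpecIso (CommRingCat.of C)).inv.hom

theorem glob_bijective (C : Type u) [CommRing C] [Algebra Γ(S, U) C] : Function.Bijective (glob hU C) :=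
  ConcreteCategory.bijective_of_isIso (Scheme.ΓSpecIso (CommRingCat.of C)).inv

theorem appTop_glob {C D : Type u} [CommRing C] [Algebra Γ(S, U) C] [CommRing D] [Algebra Γ(S, U) D]
    (h : C →ₐ[Γ(S, U)] D) (c : C) : (tMap hU h).left.appTop (glob hU C c) = glob hU D (h c) :=
  (congrArg (fun ψ => (ConcreteCategory.hom ψ) c)
    (Scheme.ΓSpecIso_inv_naturality (CommRingCat.ofHom h.toRingHom))).symm

/-- Units as global invertible functions. -/
def globUnits (C : Type u) [CommRing C] [Algebra Γ(S, U) C] : Cˣ ≃* Γ((tC hU C).left, ⊤)ˣ :=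
  Units.mapEquiv (RingEquiv.ofBijective (glob hU C) (glob_bijective hU C)).toMulEquiv

variable {X : Over S} {W : X.left.Opens} (hW : IsAffineOpen W) (hWeq : X.hom ⁻¹ᵁ U = W)
  [Algebra Γ(S, U) Γ(X.left, W)] (halg : algebraMap Γ(S, U) Γ(X.left, W) = (X.hom.appLE U W hWeq.ge).hom)

include halg in
/-- Points of a torsor from maps of algebras. -/
theorem pt_w {C : Type u} [CommRing C] [Algebra Γ(S, U) C] (φ : Γ(X.left, W) →ₐ[Γ(S, U)] C) :
    (Spec.map (CommRingCat.ofHom φ.toRingHom) ≫ hW.fromSpec) ≫ X.hom = (tC hU C).hom := by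
  rw [Category.assoc, ← hU.SpecMap_appLE_fromSpec X.hom hW hWeq.ge, ← Category.assoc, ← Spec.map_comp]
  show _ = Spec.map _ ≫ hU.fromSpec
  congr 2
  ext r
  show φ (X.hom.appLE U W hWeq.ge r) = algebraMap Γ(S, U) C r
  rw [← φ.commutes r, halg]

/-- The point of an algebra map. -/
def pt {C : Type u} [CommRing C] [Algebra Γ(S, U) C] (φ : Γ(X.left, W) →ₐ[Γ(S, U)] C) : tC hU C ⟶ X :=
  Over.homMk (Spec.map (CommRingCat.ofHom φ.toRingHom) ≫ hW.fromSpec) (pt_w hU hW hWeq halg φ)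

theorem pt_comp {C D : Type u} [CommRing C] [Algebra Γ(S, U) C] [CommRing D] [Algebra Γ(S, U) D]
    (h : C →ₐ[Γ(S, U)] D) (φ : Γ(X.left, W) →ₐ[Γ(S, U)] C) :
    tMap hU h ≫ pt hU hW hWeq halg φ = pt hU hW hWeq halg (h.comp φ) := by
  ext1
  show Spec.map (CommRingCat.ofHom h.toRingHom) ≫ Spec.map (CommRingCat.ofHom φ.toRingHom) ≫ hW.fromSpec = _
  rw [← Spec.map_comp_assoc]
  rfl

theorem pt_injective {C : Type u} [CommRing C] [Algebra Γ(S, U) C] :
    Function.Injective (pt hU hW hWeq halg (C := C)) := fun φ ψ h => by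
  have h1 := congrArg (fun q => q.left) h
  simp only [pt, Over.homMk_left] at h1
  rw [cancel_mono, Spec.map_inj] at h1
  exact AlgHom.coe_ringHom_injective (congrArg CommRingCat.Hom.hom h1)

theorem pt_surjective {C : Type u} [CommRing C] [Algebra Γ(S, U) C] :
    Function.Surjective (pt hU hW hWeq halg (C := C)) := fun x => by
  have hr : Set.range x.left ⊆ Set.range hW.fromSpec := by
    rw [hW.range_fromSpec]
    rintro _ ⟨z, rfl⟩
    rw [← hWeq]
    show X.hom (x.left z) ∈ (U : Set S)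
    rw [← Scheme.Hom.comp_apply, Over.w x]
    show (Spec.map _ ≫ hU.fromSpec) z ∈ (U : Set S)
    rw [Scheme.Hom.comp_apply, ← hU.range_fromSpec]
    exact ⟨_, rfl⟩
  obtain ⟨ψ, hψ⟩ := Spec.map_surjective (IsOpenImmersion.lift hW.fromSpec x.left hr)
  have hfac : Spec.map ψ ≫ hW.fromSpec = x.left := by rw [hψ]; exact IsOpenImmersion.lift_fac _ _ hr
  have hcomm : X.hom.appLE U W hWeq.ge ≫ ψ = CommRingCat.ofHom (algebraMap Γ(S, U) C) := by
    apply Spec.map_injective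
    rw [← cancel_mono hU.fromSpec, Spec.map_comp, Category.assoc, hU.SpecMap_appLE_fromSpec X.hom hW hWeq.ge,
      ← Category.assoc, hfac, Over.w x]
    rfl
  refine ⟨{ ψ.hom with commutes' := fun r => ?_ }, ?_⟩
  · show ψ.hom (algebraMap Γ(S, U) Γ(X.left, W) r) = _
    rw [halg]
    exact CategoryTheory.congr_fun hcomm r
  · ext1
    exact hfac

end Points

section Torsor

variable {S : Scheme.{u}} {X : Over S}

theorem faithfullyFlat_appLE {G : Over S} [GrpObj G] {a : AlgGrp.Action G X}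
    (h : NonAbH1.IsTorsorFor Scheme.fpqcPrecoverage a) [Flat X.hom] {U : S.Opens} (hU : IsAffineOpen U)
    (hW : IsAffineOpen (X.hom ⁻¹ᵁ U)) :
    (X.hom.appLE U (X.hom ⁻¹ᵁ U) le_rfl).hom.FaithfullyFlat := by
  rw [RingHom.FaithfullyFlat.iff_flat_and_comap_surjective]
  refine ⟨HasRingHomProperty.appLE @Flat X.hom inferInstance ⟨U, hU⟩ ⟨_, hW⟩ le_rfl, fun p => ?_⟩
  obtain ⟨R, hR, hs⟩ := h.2
  obtain ⟨𝒰, -, rfl⟩ := Scheme.mem_propQCPrecoverage_iff_exists_quasiCompactCover.1 hR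
  obtain ⟨i, z, hz⟩ := 𝒰.exists_eq (hU.fromSpec p)
  obtain ⟨s, hs'⟩ := hs (𝒰.f i) (Presieve.ofArrows.mk i)
  have hfx : X.hom (s z) = hU.fromSpec p := by
    rw [← Scheme.Hom.comp_apply, hs']; exact hz
  have hxW : s z ∈ X.hom ⁻¹ᵁ U := by
    show X.hom (s z) ∈ (U : Set S)
    rw [hfx, ← hU.range_fromSpec]; exact ⟨p, rfl⟩
  refine ⟨hW.primeIdealOf ⟨s z, hxW⟩, hU.fromSpec.isOpenEmbedding.injective ?_⟩
  show (Spec.map (X.hom.appLE U (X.hom ⁻¹ᵁ U) le_rfl) ≫ hU.fromSpec) _ = _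
  rw [hU.SpecMap_appLE_fromSpec X.hom hW le_rfl, Scheme.Hom.comp_apply, hW.fromSpec_primeIdealOf]
  exact hfx

theorem hasSectionOver_of_point {U : S.Opens} (hU : IsAffineOpen U) (hW : IsAffineOpen (X.hom ⁻¹ᵁ U))
    [Algebra Γ(S, U) Γ(X.left, X.hom ⁻¹ᵁ U)]
    (halg : algebraMap Γ(S, U) Γ(X.left, X.hom ⁻¹ᵁ U) = (X.hom.appLE U (X.hom ⁻¹ᵁ U) le_rfl).hom)
    {C : Type u} [CommRing C] [Algebra Γ(S, U) C] (φ : Γ(X.left, X.hom ⁻¹ᵁ U) →ₐ[Γ(S, U)] C) :
    NonAbH1.HasSectionOver X (Spec.map (CommRingCat.ofHom (algebraMap Γ(S, U) C)) ≫ hU.fromSpec) :=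
  ⟨(pt hU hW rfl halg φ).left, Over.w (pt hU hW rfl halg φ)⟩

variable {U : S.Opens} (hU : IsAffineOpen U) (hW : IsAffineOpen (X.hom ⁻¹ᵁ U))
  [Algebra Γ(S, U) Γ(X.left, X.hom ⁻¹ᵁ U)]
  (halg : algebraMap Γ(S, U) Γ(X.left, X.hom ⁻¹ᵁ U) = (X.hom.appLE U (X.hom ⁻¹ᵁ U) le_rfl).hom)

include hU hW halg in
/-- The inverse of `pt`. -/
def unpt {C : Type u} [CommRing C] [Algebra Γ(S, U) C] (x : tC hU C ⟶ X) :
    Γ(X.left, X.hom ⁻¹ᵁ U) →ₐ[Γ(S, U)] C :=
  (pt_surjective hU hW rfl halg x).choose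

include hU hW halg in
theorem pt_unpt {C : Type u} [CommRing C] [Algebra Γ(S, U) C] (x : tC hU C ⟶ X) :
    pt hU hW rfl halg (unpt hU hW halg x) = x :=
  (pt_surjective hU hW rfl halg x).choose_spec

include hU hW halg in
theorem exists_mulPts (a : AlgGrp.Action (Red.Gm S) X) (h : NonAbH1.IsPseudoTorsorSch a) :
    Nonempty (MulPts Γ(S, U) Γ(X.left, X.hom ⁻¹ᵁ U)) := by
  refine ⟨⟨fun C _ _ g φ => unpt hU hW halg
    (lift (GmPts.ptOfUnit (globUnits hU C g)) (pt hU hW rfl halg φ) ≫ a.act), ?_, ?_, ?_⟩⟩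
  · intro C D _ _ _ _ e g φ
    apply pt_injective hU hW rfl halg
    rw [← pt_comp, pt_unpt, pt_unpt, ← pt_comp, comp_lift_assoc, GmPts.ptOfUnit_comp]
    congr 3
    exact Units.ext (appTop_glob hU e g)
  · intro C _ _ g g' φ
    apply pt_injective hU hW rfl halg
    rw [pt_unpt, pt_unpt, pt_unpt, map_mul, GmPts.ptOfUnit_mul, AlgGrp.Action.lift_mul_act]
  · intro C _ _ φ ψ
    obtain ⟨g, hg, hu⟩ := TorsorSch25.existsUnique_smul h (pt hU hW rfl halg ψ) (pt hU hW rfl halg φ)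
    refine ⟨(globUnits hU C).symm (GmPts.unitOfPt g), ?_, fun g' hg' => ?_⟩
    · apply pt_injective hU hW rfl halg
      simp only [MulEquiv.apply_symm_apply, GmPts.ptOfUnit_unitOfPt, hg, pt_unpt]
    · have := congrArg (pt hU hW rfl halg) hg'
      simp only [pt_unpt] at this
      rw [← hu _ this, GmPts.unitOfPt_ptOfUnit, MulEquiv.symm_apply_apply]

include hU hW halg in
theorem exists_addPts (a : AlgGrp.Action (Red.Ga S) X) (h : NonAbH1.IsPseudoTorsorSch a) :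
    Nonempty (AddPts Γ(S, U) Γ(X.left, X.hom ⁻¹ᵁ U)) := by
  refine ⟨⟨fun C _ _ g φ => unpt hU hW halg
    (lift (GaPts.ptOfFn (glob hU C g)) (pt hU hW rfl halg φ) ≫ a.act), ?_, ?_, ?_⟩⟩
  · intro C D _ _ _ _ e g φ
    apply pt_injective hU hW rfl halg
    rw [← pt_comp, pt_unpt, pt_unpt, ← pt_comp, comp_lift_assoc, GaPts.ptOfFn_comp, appTop_glob]
  · intro C _ _ g g' φ
    apply pt_injective hU hW rfl halg
    rw [pt_unpt, pt_unpt, pt_unpt, map_add, GaPts.ptOfFn_add, AlgGrp.Action.lift_mul_act]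
  · intro C _ _ φ ψ
    obtain ⟨g, hg, hu⟩ := TorsorSch25.existsUnique_smul h (pt hU hW rfl halg ψ) (pt hU hW rfl halg φ)
    obtain ⟨c, hc⟩ := (glob_bijective hU C).2 (Red.gaFn g)
    have hcg : GaPts.ptOfFn (glob hU C c) = g := GaPts.gaFn_injective (by
      show Red.gaFn _ = Red.gaFn g
      rw [GaPts.gaFn_ptOfFn, hc])
    refine ⟨c, ?_, fun g' hg' => (glob_bijective hU C).1 ?_⟩
    · apply pt_injective hU hW rfl halg
      simp only [hcg, hg, pt_unpt]
    · have := congrArg (pt hU hW rfl halg) hg'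
      simp only [pt_unpt] at this
      rw [hc, ← hu _ this, GaPts.gaFn_ptOfFn]

end Torsor

end Groth.Agent.TorsTriv25
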