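import Groth.Agent.Lib.Amitsur12.Basic
import Groth.Agent.Lib.ModDesc12.Alg
import Mathlib.RingTheory.Flat.FaithfullyFlat.Algebra
import Mathlib.RingTheory.Localization.Away.Basic

/-!
Pseudo-torsors under the multiplicative and the additive group on the points of a faithfully flat
algebra have points Zariski locally.
-/

universe u

open TensorProduct

noncomputable section

namespace Groth.Agent.TorsTriv25

variable {A B : Type u} [CommRing A] [CommRing B] [Algebra A B]

/-- A point equalised by the two projections descends. -/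
theorem exists_point_of_eq {C D : Type u} [CommRing C] [CommRing D] [Algebra A C] [Algebra A D] [Algebra C D]
    [IsScalarTower A C D] [Module.FaithfullyFlat C D] (σ : B →ₐ[A] D)
    (h : ((Algebra.TensorProduct.includeLeft : D →ₐ[C] D ⊗[C] D).restrictScalars A).comp σ =
      ((Algebra.TensorProduct.includeRight : D →ₐ[C] D ⊗[C] D).restrictScalars A).comp σ) :
    Nonempty (B →ₐ[A] C) := by
  have hinj : Function.Injective (IsScalarTower.toAlgHom A C D) := FaithfulSMul.algebraMap_injective C D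
  have hm : ∀ x, σ x ∈ (IsScalarTower.toAlgHom A C D).range := fun x => by
    obtain ⟨z, hz⟩ := (Amitsur12.exact_zero C D C (σ x ⊗ₜ[C] (1 : C))).1 (by
      have hx : σ x ⊗ₜ[C] (1 : D) = (1 : D) ⊗ₜ[C] σ x := AlgHom.congr_fun h x
      have h2 := congrArg ((TensorProduct.rid C D).symm.toLinearMap.lTensor D) hx
      simp only [LinearMap.lTensor_tmul, LinearEquiv.coe_coe, TensorProduct.rid_symm_apply] at h2
      simp [← h2])
    refine ⟨z, ?_⟩
    have := congrArg (TensorProduct.rid C D) hz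
    simpa [Algebra.smul_def] using this
  exact ⟨((AlgEquiv.ofInjective (IsScalarTower.toAlgHom A C D) hinj).symm.toAlgHom).comp
    (σ.codRestrict _ hm)⟩

/-- The first projection of a double tensor. -/
abbrev q0 : B →ₐ[A] B ⊗[A] B := Algebra.TensorProduct.includeLeft

/-- The second projection. -/
abbrev q1 : B →ₐ[A] B ⊗[A] B := Algebra.TensorProduct.includeRight

abbrev p0 : B →ₐ[A] B ⊗[A] (B ⊗[A] B) := Algebra.TensorProduct.includeLeft

abbrev p1 : B →ₐ[A] B ⊗[A] (B ⊗[A] B) := (Algebra.TensorProduct.includeRight).comp q0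

abbrev p2 : B →ₐ[A] B ⊗[A] (B ⊗[A] B) := (Algebra.TensorProduct.includeRight).comp q1

abbrev pair01 : B ⊗[A] B →ₐ[A] B ⊗[A] (B ⊗[A] B) := Algebra.TensorProduct.map (AlgHom.id A B) q0

abbrev pair12 : B ⊗[A] B →ₐ[A] B ⊗[A] (B ⊗[A] B) := Algebra.TensorProduct.includeRight

abbrev pair02 : B ⊗[A] B →ₐ[A] B ⊗[A] (B ⊗[A] B) := Algebra.TensorProduct.map (AlgHom.id A B) q1

theorem pair01_q0 : (pair01 (A := A) (B := B)).comp q0 = p0 :=
  AlgHom.ext fun x => by simp [Algebra.TensorProduct.one_def]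

theorem pair01_q1 : (pair01 (A := A) (B := B)).comp q1 = p1 :=
  AlgHom.ext fun x => by simp

theorem pair02_q0 : (pair02 (A := A) (B := B)).comp q0 = p0 :=
  AlgHom.ext fun x => by simp [Algebra.TensorProduct.one_def]

theorem pair02_q1 : (pair02 (A := A) (B := B)).comp q1 = p2 :=
  AlgHom.ext fun x => by simp

/-- The diagonal. -/
abbrev diagHom : B ⊗[A] B →ₐ[A] B := Algebra.TensorProduct.lmul' A

section Units

variable [Module.FaithfullyFlat A B]

/-- The module twisted by a unit cocycle. -/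
theorem bijective_twist (θ : B ⊗[A] B) (h1 : diagHom θ = 1)
    (h2 : pair01 θ * pair12 θ = pair02 θ) :
    ∃ M : Submodule A B, (∀ m, m ∈ M ↔ q0 m * θ = q1 m) ∧ Function.Surjective (ModDesc12.mult (S := B) M) := by
  let ρ : B →ₗ[B] B ⊗[A] B :=
    { toFun := fun n => (n ⊗ₜ[A] (1 : B)) * θ
      map_add' := fun a b => by rw [TensorProduct.add_tmul, add_mul]
      map_smul' := fun s n => by
        rw [RingHom.id_apply, ← smul_mul_assoc, TensorProduct.smul_tmul', smul_eq_mul] }
  have hmul : ∀ z : B ⊗[A] B, ModDesc12.mulMap (R := A) (S := B) (N := B) z = diagHom z := fun z => by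
    induction z using TensorProduct.induction_on with
    | zero => simp
    | add a b ha hb => rw [map_add, map_add, ha, hb]
    | tmul a b => simp
  have hε : ∀ n, ModDesc12.mulMap (R := A) (S := B) (N := B) (ρ n) = n := fun n => by
    rw [hmul]
    show diagHom ((n ⊗ₜ[A] (1 : B)) * θ) = n
    rw [map_mul, h1, mul_one]
    simp
  have hlρ : ∀ z : B ⊗[A] B, LinearMap.lTensor B (ρ.restrictScalars A) z = pair01 z * pair12 θ := fun z => by
    induction z using TensorProduct.induction_on with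
    | zero => simp
    | add a b ha hb => rw [map_add, map_add, ha, hb, add_mul]
    | tmul a b =>
      rw [LinearMap.lTensor_tmul]
      show a ⊗ₜ[A] ((b ⊗ₜ[A] (1 : B)) * θ) = (a ⊗ₜ[A] (b ⊗ₜ[A] (1 : B))) * ((1 : B) ⊗ₜ[A] θ)
      rw [Algebra.TensorProduct.tmul_mul_tmul, mul_one]
  have hlι : ∀ z : B ⊗[A] B, LinearMap.lTensor B (ModDesc12.ι (R := A) (S := B) (N := B)) z = pair02 z := fun z => by
    induction z using TensorProduct.induction_on with
    | zero => simp
    | add a b ha hb => rw [map_add, map_add, ha, hb]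
    | tmul a b => simp [ModDesc12.ι]
  have hc : ∀ n, LinearMap.lTensor B (ρ.restrictScalars A) (ρ n) =
      LinearMap.lTensor B (ModDesc12.ι (R := A) (S := B) (N := B)) (ρ n) := fun n => by
    rw [hlρ, hlι]
    show pair01 ((n ⊗ₜ[A] (1 : B)) * θ) * pair12 θ = pair02 ((n ⊗ₜ[A] (1 : B)) * θ)
    rw [map_mul, map_mul, mul_assoc, h2]
    congr 1
  exact ⟨ModDesc12.fixed ρ, fun m => ModDesc12.mem_fixed ρ m, (ModDesc12.bijective_mult ρ hε hc).2⟩

/-- A unit cocycle is locally a coboundary. -/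
theorem exists_local_coboundary (θ : (B ⊗[A] B)ˣ) (h2 : pair01 (θ : B ⊗[A] B) * pair12 (θ : B ⊗[A] B) =
      pair02 (θ : B ⊗[A] B)) (h1 : diagHom (θ : B ⊗[A] B) = 1) (p : Ideal A) [p.IsPrime] :
    ∃ f ∉ p, ∃ b b' : B, q0 b * (θ : B ⊗[A] B) = q1 b ∧ b * b' = algebraMap A B f := by
  obtain ⟨M, hM, hMs⟩ := bijective_twist _ h1 h2
  have h1' : diagHom ((θ⁻¹ : (B ⊗[A] B)ˣ) : B ⊗[A] B) = 1 := by
    have := congrArg diagHom θ.inv_mul
    rwa [map_mul, h1, mul_one, map_one] at this
  have h2' : pair01 ((θ⁻¹ : (B ⊗[A] B)ˣ) : B ⊗[A] B) * pair12 ((θ⁻¹ : (B ⊗[A] B)ˣ) : B ⊗[A] B) =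
      pair02 ((θ⁻¹ : (B ⊗[A] B)ˣ) : B ⊗[A] B) := by
    have e : Units.map (pair01 (A := A) (B := B)).toMonoidHom θ * Units.map (pair12 (A := A) (B := B)).toMonoidHom θ =
        Units.map (pair02 (A := A) (B := B)).toMonoidHom θ := Units.ext h2
    have e' : Units.map (pair01 (A := A) (B := B)).toMonoidHom θ⁻¹ * Units.map (pair12 (A := A) (B := B)).toMonoidHom θ⁻¹ =
        Units.map (pair02 (A := A) (B := B)).toMonoidHom θ⁻¹ := by
      rw [map_inv, map_inv, map_inv, ← e, mul_inv_rev]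
      exact mul_comm ((Units.map (pair01 (A := A) (B := B)).toMonoidHom) θ)⁻¹ _
    exact congrArg Units.val e'
  obtain ⟨M', hM', hM's⟩ := bijective_twist _ h1' h2'
  let gens : Set A := {a | ∃ m ∈ M, ∃ m' ∈ M', m * m' = algebraMap A B a}
  have hprod : ∀ m ∈ M, ∀ m' ∈ M', ∃ a, a ∈ gens ∧ m * m' = algebraMap A B a := fun m hm m' hm' => by
    have e : q0 (A := A) (B := B) (m * m') = q1 (A := A) (B := B) (m * m') := by
      rw [map_mul q1, ← (hM m).1 hm, ← (hM' m').1 hm', map_mul,
        mul_mul_mul_comm, θ.mul_inv, mul_one]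
    obtain ⟨a, ha⟩ := (Amitsur12.exact_zero A B A ((m * m') ⊗ₜ[A] (1 : A))).1 (by
      have h2 := congrArg ((TensorProduct.rid A B).symm.toLinearMap.lTensor B)
        (show (m * m') ⊗ₜ[A] (1 : B) = (1 : B) ⊗ₜ[A] (m * m') from e)
      simp only [LinearMap.lTensor_tmul, LinearEquiv.coe_coe, TensorProduct.rid_symm_apply] at h2
      simp [← h2])
    have ha' : algebraMap A B a = m * m' := by
      have := congrArg (TensorProduct.rid A B) ha
      simpa [Algebra.smul_def] using this
    exact ⟨a, ⟨m, hm, m', hm', ha'.symm⟩, ha'.symm⟩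
  have hsurj : ∀ z : B ⊗[A] M, ∀ w : B ⊗[A] M', ModDesc12.mult M z * ModDesc12.mult M' w ∈
      (Ideal.span gens).map (algebraMap A B) := fun z w => by
    induction z using TensorProduct.induction_on with
    | zero => simp
    | add a b ha hb => rw [map_add, add_mul]; exact Ideal.add_mem _ ha hb
    | tmul s m =>
      induction w using TensorProduct.induction_on with
      | zero => simp
      | add a b ha hb => rw [map_add, mul_add]; exact Ideal.add_mem _ ha hb
      | tmul s' m' =>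
        rw [ModDesc12.mult_tmul, ModDesc12.mult_tmul, smul_eq_mul, smul_eq_mul, mul_mul_mul_comm]
        obtain ⟨a, ha, e⟩ := hprod m m.2 m' m'.2
        rw [e]
        exact Ideal.mul_mem_left _ _ (Ideal.mem_map_of_mem _ (Ideal.subset_span ha))
  have htop : (Ideal.span gens).map (algebraMap A B) = ⊤ := by
    obtain ⟨z, hz⟩ := hMs 1
    obtain ⟨w, hw⟩ := hM's 1
    have := hsurj z w
    rw [hz, hw, mul_one] at this
    exact (Ideal.eq_top_iff_one _).2 this
  have hI : Ideal.span gens = ⊤ := by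
    rw [← Ideal.comap_map_eq_self_of_faithfullyFlat (B := B) (Ideal.span gens), htop, Ideal.comap_top]
  obtain ⟨f, ⟨b, hb, b', -, hbb'⟩, hf⟩ : ∃ f ∈ gens, f ∉ p := by
    by_contra h
    push Not at h
    exact ‹p.IsPrime›.ne_top (eq_top_iff.2 (hI ▸ Ideal.span_le.2 h))
  exact ⟨f, hf, b, b', (hM b).1 hb, hbb'⟩

end Units

/-- A simply transitive action of units on points, compatibly with maps of algebras. -/
structure MulPts (A B : Type u) [CommRing A] [CommRing B] [Algebra A B] where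
  sm : ∀ (C : Type u) [CommRing C] [Algebra A C], Cˣ → (B →ₐ[A] C) → (B →ₐ[A] C)
  map_sm : ∀ (C D : Type u) [CommRing C] [Algebra A C] [CommRing D] [Algebra A D] (h : C →ₐ[A] D) (g : Cˣ)
    (φ : B →ₐ[A] C), h.comp (sm C g φ) = sm D (Units.map h.toMonoidHom g) (h.comp φ)
  sm_mul : ∀ (C : Type u) [CommRing C] [Algebra A C] (g g' : Cˣ) (φ : B →ₐ[A] C),
    sm C g (sm C g' φ) = sm C (g * g') φ
  existsUnique_sm : ∀ (C : Type u) [CommRing C] [Algebra A C] (φ ψ : B →ₐ[A] C), ∃! g : Cˣ, sm C g ψ = φ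

namespace MulPts

variable (P : MulPts A B)

theorem cancel {C : Type u} [CommRing C] [Algebra A C] {g g' : Cˣ} {ψ : B →ₐ[A] C}
    (h : P.sm C g ψ = P.sm C g' ψ) : g = g' :=
  (P.existsUnique_sm C _ ψ).unique rfl h.symm

include P in
theorem exists_point [Module.FaithfullyFlat A B] (p : Ideal A) [p.IsPrime] :
    ∃ f ∉ p, Nonempty (B →ₐ[A] Localization.Away f) := by
  obtain ⟨θ, hθ, -⟩ := P.existsUnique_sm (B ⊗[A] B) q0 q1
  have hδ : ∀ {C : Type u} [CommRing C] [Algebra A C] (h : B ⊗[A] B →ₐ[A] C),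
      P.sm C (Units.map h.toMonoidHom θ) (h.comp q1) = h.comp q0 := fun h => by
    rw [← P.map_sm, hθ]
  have h2 : pair01 (θ : B ⊗[A] B) * pair12 (θ : B ⊗[A] B) = pair02 (θ : B ⊗[A] B) := by
    have e01 := hδ (pair01 (A := A) (B := B))
    have e02 := hδ (pair02 (A := A) (B := B))
    have e12 := hδ (pair12 (A := A) (B := B))
    rw [pair01_q0, pair01_q1] at e01
    rw [pair02_q0, pair02_q1] at e02
    change P.sm _ (Units.map pair12.toMonoidHom θ) p2 = p1 at e12
    rw [← e12, P.sm_mul, ← e02] at e01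
    exact congrArg Units.val (P.cancel e01)
  have h1 : diagHom (θ : B ⊗[A] B) = 1 := by
    have e : Units.map (diagHom (A := A) (B := B)).toMonoidHom θ *
        Units.map (diagHom (A := A) (B := B)).toMonoidHom θ = Units.map (diagHom (A := A) (B := B)).toMonoidHom θ := by
      have hd := hδ (diagHom (A := A) (B := B))
      have e0 : (diagHom (A := A) (B := B)).comp q0 = AlgHom.id A B := AlgHom.ext fun x => by simp
      have e1 : (diagHom (A := A) (B := B)).comp q1 = AlgHom.id A B := AlgHom.ext fun x => by simp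
      rw [e0, e1] at hd
      refine P.cancel (ψ := AlgHom.id A B) ?_
      rw [← P.sm_mul, hd, hd]
    exact congrArg Units.val (mul_eq_left.1 e)
  obtain ⟨f, hf, b, b', hb, hbb'⟩ := exists_local_coboundary θ h2 h1 p
  refine ⟨f, hf, ?_⟩
  let C := Localization.Away f
  let D := C ⊗[A] B
  let φ : B →ₐ[A] D := Algebra.TensorProduct.includeRight
  have hu : IsUnit (φ b) := by
    have : IsUnit (φ b * φ b') := by
      rw [← map_mul, hbb', AlgHom.commutes, IsScalarTower.algebraMap_apply A C D]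
      exact (IsLocalization.Away.algebraMap_isUnit f).map _
    exact isUnit_of_mul_isUnit_left this
  let j0 : D →ₐ[A] D ⊗[C] D := (Algebra.TensorProduct.includeLeft : D →ₐ[C] D ⊗[C] D).restrictScalars A
  let j1 : D →ₐ[A] D ⊗[C] D := (Algebra.TensorProduct.includeRight : D →ₐ[C] D ⊗[C] D).restrictScalars A
  refine exists_point_of_eq (C := C) (P.sm D hu.unit φ) ?_
  change j0.comp _ = j1.comp _
  let l : B ⊗[A] B →ₐ[A] D ⊗[C] D :=
    Algebra.TensorProduct.lift (j0.comp φ) (j1.comp φ) fun x y => mul_comm ((j0.comp φ) x) ((j1.comp φ) y)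
  have e0 : l.comp q0 = j0.comp φ := AlgHom.ext fun x => by simp [l]
  have e1 : l.comp q1 = j1.comp φ := AlgHom.ext fun x => by simp [l]
  have hl := hδ (C := D ⊗[C] D) l
  rw [e0, e1] at hl
  refine (P.map_sm D (D ⊗[C] D) j0 hu.unit φ).trans
    (Eq.trans ?_ (P.map_sm D (D ⊗[C] D) j1 hu.unit φ).symm)
  refine (congrArg (P.sm (D ⊗[C] D) (Units.map j0.toMonoidHom hu.unit)) hl.symm).trans ((P.sm_mul _ _ _ _).trans ?_)
  refine congrArg (fun g => P.sm (D ⊗[C] D) g (j1.comp φ)) ?_
  refine Units.ext ?_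
  show j0 (φ b) * l (θ : B ⊗[A] B) = j1 (φ b)
  rw [show j0 (φ b) = l (q0 b) from (AlgHom.congr_fun e0 b).symm,
    show j1 (φ b) = l (q1 b) from (AlgHom.congr_fun e1 b).symm, ← map_mul, hb]

end MulPts

/-- A simply transitive action of the additive group on points. -/
structure AddPts (A B : Type u) [CommRing A] [CommRing B] [Algebra A B] where
  sm : ∀ (C : Type u) [CommRing C] [Algebra A C], C → (B →ₐ[A] C) → (B →ₐ[A] C)
  map_sm : ∀ (C D : Type u) [CommRing C] [Algebra A C] [CommRing D] [Algebra A D] (h : C →ₐ[A] D) (g : C)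
    (φ : B →ₐ[A] C), h.comp (sm C g φ) = sm D (h g) (h.comp φ)
  sm_add : ∀ (C : Type u) [CommRing C] [Algebra A C] (g g' : C) (φ : B →ₐ[A] C),
    sm C g (sm C g' φ) = sm C (g + g') φ
  existsUnique_sm : ∀ (C : Type u) [CommRing C] [Algebra A C] (φ ψ : B →ₐ[A] C), ∃! g : C, sm C g ψ = φ

namespace AddPts

variable (P : AddPts A B)

theorem cancel {C : Type u} [CommRing C] [Algebra A C] {g g' : C} {ψ : B →ₐ[A] C}
    (h : P.sm C g ψ = P.sm C g' ψ) : g = g' :=
  (P.existsUnique_sm C _ ψ).unique rfl h.symm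

include P in
theorem exists_point [Module.FaithfullyFlat A B] : Nonempty (B →ₐ[A] A) := by
  obtain ⟨θ, hθ, -⟩ := P.existsUnique_sm (B ⊗[A] B) q0 q1
  have hδ : ∀ {C : Type u} [CommRing C] [Algebra A C] (h : B ⊗[A] B →ₐ[A] C),
      P.sm C (h θ) (h.comp q1) = h.comp q0 := fun h => by
    rw [← P.map_sm, hθ]
  have h2 : pair01 θ + pair12 θ = pair02 θ := by
    have e01 := hδ (pair01 (A := A) (B := B))
    have e02 := hδ (pair02 (A := A) (B := B))
    have e12 := hδ (pair12 (A := A) (B := B))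
    rw [pair01_q0, pair01_q1] at e01
    rw [pair02_q0, pair02_q1] at e02
    change P.sm _ (pair12 θ) p2 = p1 at e12
    rw [← e12, P.sm_add, ← e02] at e01
    exact P.cancel e01
  obtain ⟨z, hz⟩ := (Amitsur12.exact_one A B A ((1 : A) ⊗ₜ[A] θ)).1 (by
    simp only [LinearMap.add_apply, LinearMap.sub_apply, LinearMap.lTensor_tmul, AlgHom.toLinearMap_apply]
    rw [← TensorProduct.tmul_sub, ← TensorProduct.tmul_add]
    show (1 : A) ⊗ₜ[A] (pair12 θ - pair02 θ + pair01 θ) = 0
    rw [← h2]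
    simp)
  let b : B := TensorProduct.lid A B z
  have hb : q1 b - q0 b = θ := by
    have := congrArg (TensorProduct.lid A (B ⊗[A] B)) hz
    rw [TensorProduct.lid_tmul, one_smul] at this
    rw [← this, show z = (1 : A) ⊗ₜ[A] b from ((TensorProduct.lid A B).symm_apply_apply z).symm.trans
      (TensorProduct.lid_symm_apply _)]
    simp [TensorProduct.tmul_sub]
  refine exists_point_of_eq (C := A) (P.sm B b (AlgHom.id A B)) ?_
  change (q0 (A := A) (B := B)).comp _ = (q1 (A := A) (B := B)).comp _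
  rw [P.map_sm, P.map_sm, AlgHom.comp_id, AlgHom.comp_id]
  refine (congrArg (P.sm (B ⊗[A] B) (q0 b)) hθ.symm).trans ?_
  rw [P.sm_add, add_comm, ← eq_add_of_sub_eq hb]

end AddPts

end Groth.Agent.TorsTriv25
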